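import Mathlib

/-! Divisibility in flat base changes of intersections of valuation rings with reduced residual fibres. -/

set_option autoImplicit false
set_option backward.isDefEq.respectTransparency false
set_option linter.style.haveILetI false
noncomputable section
universe u v
open scoped TensorProduct WithZero

namespace Groth.Agent.H06GRConn

variable {A B : Type u} [CommRing A] [CommRing B] [Algebra A B] [Module.Flat A B]

/-- Over a valuation ring with reduced residual fibre: `x² = x a` implies that `a` divides `x`. -/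
theorem exists_eq_mul_valuation {V κ : Type u} [CommRing V] [IsDomain V] [CommRing κ] [Algebra A V] [Algebra A κ]
    (res : V →ₐ[A] κ) (hres : Function.Surjective res) (hker : ∀ r, res r = 0 ↔ ¬ IsUnit r)
    (hdiv : ∀ p q : V, p ∣ q ∨ q ∣ p) (μ : V → ℕ)
    (hμ : ∀ p q : V, p * q ≠ 0 → ¬ IsUnit p → μ q < μ (p * q)) [IsReduced (B ⊗[A] κ)]
    {a : V} (ha : a ≠ 0) {x : B ⊗[A] V} (hx : x * x = x * ((1 : B) ⊗ₜ[A] a)) :
    ∃ y, x = y * ((1 : B) ⊗ₜ[A] a) := by
  induction hn : μ a using Nat.strong_induction_on generalizing a x with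
  | _ n ih =>
    by_cases hu : IsUnit a
    · obtain ⟨a, rfl⟩ := hu
      refine ⟨x * ((1 : B) ⊗ₜ[A] ((a⁻¹ : Vˣ) : V)), ?_⟩
      rw [mul_assoc, Algebra.TensorProduct.tmul_mul_tmul, one_mul, Units.inv_mul, ← Algebra.TensorProduct.one_def, mul_one]
    -- `x` vanishes residually
    let ρ := Algebra.TensorProduct.map (AlgHom.id A B) res
    have hρ : ρ x = 0 := IsReduced.eq_zero _ ⟨2, by
      rw [sq, ← map_mul, hx, map_mul, Algebra.TensorProduct.map_tmul, (hker a).2 hu, TensorProduct.tmul_zero, mul_zero]⟩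
    have hρ' : res.toLinearMap.lTensor B x = 0 := hρ
    obtain ⟨z, hz⟩ := ((lTensor_exact B (f := (LinearMap.ker res.toLinearMap).subtype)
      (LinearMap.exact_subtype_ker_map res.toLinearMap) hres) x).1 hρ'
    have key : ∀ z : B ⊗[A] LinearMap.ker res.toLinearMap, ∃ π : V, ¬ IsUnit π ∧ π ∣ a ∧
        ∃ w : B ⊗[A] V, (LinearMap.ker res.toLinearMap).subtype.lTensor B z = w * ((1 : B) ⊗ₜ[A] π) := fun z => by
      induction z using TensorProduct.induction_on with
      | zero => exact ⟨a, hu, dvd_rfl, 0, by rw [map_zero, zero_mul]⟩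
      | tmul b m =>
        rcases hdiv m.1 a with h | ⟨c, hc⟩
        · exact ⟨m.1, (hker _).1 m.2, h, b ⊗ₜ[A] 1, by
            rw [LinearMap.lTensor_tmul, Algebra.TensorProduct.tmul_mul_tmul, mul_one, one_mul]; rfl⟩
        · exact ⟨a, hu, dvd_rfl, b ⊗ₜ[A] c, by
            rw [LinearMap.lTensor_tmul, Algebra.TensorProduct.tmul_mul_tmul, mul_one, mul_comm c a, ← hc]; rfl⟩
      | add p q hp hq =>
        obtain ⟨π, hπ, hπa, w, hw⟩ := hp
        obtain ⟨π', hπ', hπa', w', hw'⟩ := hq
        rcases hdiv π π' with ⟨c, hc⟩ | ⟨c, hc⟩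
        · refine ⟨π, hπ, hπa, w + w' * ((1 : B) ⊗ₜ[A] c), ?_⟩
          rw [map_add, hw, hw', add_mul, mul_assoc w', Algebra.TensorProduct.tmul_mul_tmul, one_mul, mul_comm c π, ← hc]
        · refine ⟨π', hπ', hπa', w * ((1 : B) ⊗ₜ[A] c) + w', ?_⟩
          rw [map_add, hw, hw', add_mul, mul_assoc w, Algebra.TensorProduct.tmul_mul_tmul, one_mul, mul_comm c π', ← hc]
    obtain ⟨π, hπ, ⟨a', rfl⟩, w, hw⟩ := key z
    rw [hz] at hw
    have hreg : ∀ y : B ⊗[A] V, y * ((1 : B) ⊗ₜ[A] π) = 0 → y = 0 := fun y hy => by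
      have e : ∀ y : B ⊗[A] V, (LinearMap.mulRight A π).lTensor B y = y * ((1 : B) ⊗ₜ[A] π) := fun y => by
        induction y using TensorProduct.induction_on with
        | zero => rw [map_zero, zero_mul]
        | tmul b m => rw [LinearMap.lTensor_tmul, Algebra.TensorProduct.tmul_mul_tmul, mul_one]; rfl
        | add p q hp hq => rw [map_add, hp, hq, add_mul]
      rw [← e] at hy
      exact (map_eq_zero_iff _ (Module.Flat.lTensor_preserves_injective_linearMap (LinearMap.mulRight A π)
        (mul_left_injective₀ (left_ne_zero_of_mul ha)))).1 hy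
    have hsplit : ((1 : B) ⊗ₜ[A] (π * a')) = ((1 : B) ⊗ₜ[A] π) * ((1 : B) ⊗ₜ[A] a') := by
      rw [Algebra.TensorProduct.tmul_mul_tmul, one_mul]
    have hw2 : w * w = w * ((1 : B) ⊗ₜ[A] a') := by
      refine sub_eq_zero.1 (hreg _ (hreg _ ?_))
      rw [hw, hsplit] at hx
      linear_combination hx
    obtain ⟨y, hy⟩ := ih (μ a') (hn ▸ hμ π a' ha hπ) (right_ne_zero_of_mul ha) hw2 rfl
    exact ⟨y, by rw [hw, hy, hsplit]; ring⟩

/-- Gluing divisibility from finitely many quotients. -/
theorem exists_eq_mul_of_local {R : Type u} [CommRing R] [Algebra A R] {ι : Type v} [Fintype ι] (V : ι → Type u)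
    [∀ i, CommRing (V i)] [∀ i, Algebra A (V i)] (φ : ∀ i, R →ₐ[A] V i) (a : R)
    (hS : ∀ r : R, (∀ i, φ i a ∣ φ i r) → a ∣ r) (x : B ⊗[A] R)
    (hloc : ∀ i, ∃ y, Algebra.TensorProduct.map (AlgHom.id A B) (φ i) x = y * ((1 : B) ⊗ₜ[A] φ i a)) :
    ∃ y, x = y * ((1 : B) ⊗ₜ[A] a) := by
  classical
  let q : ∀ i, V i →ₐ[A] V i ⧸ Ideal.span {φ i a} := fun i => Ideal.Quotient.mkₐ A _
  let f : R →ₗ[A] ∀ i, V i ⧸ Ideal.span {φ i a} := LinearMap.pi fun i => ((q i).comp (φ i)).toLinearMap
  have hex : Function.Exact (LinearMap.mulRight A a) f := fun r => by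
    constructor
    · intro hr
      obtain ⟨c, hc⟩ := hS r fun i => Ideal.mem_span_singleton.1 (Ideal.Quotient.eq_zero_iff_mem.1 (congrFun hr i))
      exact ⟨c, by rw [hc, mul_comm]; rfl⟩
    · rintro ⟨c, rfl⟩
      funext i
      show Ideal.Quotient.mk _ (φ i (c * a)) = 0
      rw [Ideal.Quotient.eq_zero_iff_mem, map_mul]
      exact Ideal.mul_mem_left _ _ (Ideal.mem_span_singleton_self _)
  have h0 : f.lTensor B x = 0 := by
    apply (TensorProduct.piRight A A B fun i => V i ⧸ Ideal.span {φ i a}).injective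
    rw [map_zero]
    funext i
    have e : ∀ z, TensorProduct.piRight A A B (fun i => V i ⧸ Ideal.span {φ i a}) (f.lTensor B z) i =
        Algebra.TensorProduct.map (AlgHom.id A B) (q i) (Algebra.TensorProduct.map (AlgHom.id A B) (φ i) z) := fun z => by
      induction z using TensorProduct.induction_on with
      | zero => simp
      | tmul b r => rfl
      | add p r hp hr => simp only [map_add, Pi.add_apply, hp, hr]
    obtain ⟨y, hy⟩ := hloc i
    rw [e, hy, map_mul, Algebra.TensorProduct.map_tmul,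
      show q i (φ i a) = 0 from Ideal.Quotient.eq_zero_iff_mem.2 (Ideal.mem_span_singleton_self _),
      TensorProduct.tmul_zero, mul_zero, Pi.zero_apply]
  obtain ⟨y, hy⟩ := (Module.Flat.lTensor_exact B hex x).1 h0
  refine ⟨y, hy.symm.trans ?_⟩
  clear hy h0 hloc
  induction y using TensorProduct.induction_on with
  | zero => rw [map_zero, zero_mul]
  | tmul b r => rw [LinearMap.lTensor_tmul, Algebra.TensorProduct.tmul_mul_tmul, mul_one]; rfl
  | add p r hp hr => rw [map_add, hp, hr, add_mul]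

end Groth.Agent.H06GRConn
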