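import Mathlib

/-! When a base change of a local integral algebra along a local homomorphism is local. -/

set_option autoImplicit false
set_option backward.isDefEq.respectTransparency false
set_option linter.style.haveILetI false
noncomputable section
universe u
open scoped TensorProduct
open IsLocalRing

namespace Groth.Agent.H06GRConn

variable {A B S : Type u} [CommRing A] [CommRing B] [CommRing S] [Algebra A B] [Algebra A S] [IsLocalRing A]
  [IsLocalRing B] [IsLocalHom (algebraMap A B)] [IsLocalRing S] [Algebra.IsIntegral A S]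

variable (A B S) in
/-- The ideal of the closed fibre. -/
def fibreIdeal : Ideal (B ⊗[A] S) :=
  (maximalIdeal B).map (Algebra.TensorProduct.includeLeftRingHom : B →+* B ⊗[A] S) ⊔
    (maximalIdeal S).map (Algebra.TensorProduct.includeRight (R := A) (A := B) (B := S)).toRingHom

theorem map_maximalIdeal_mem {a : A} (ha : a ∈ maximalIdeal A) :
    algebraMap A (B ⊗[A] S) a ∈ fibreIdeal A B S :=
  Ideal.mem_sup_left (Ideal.mem_map_of_mem Algebra.TensorProduct.includeLeftRingHom
    (map_nonunit (algebraMap A B) a ha))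

theorem le_maximal (M : Ideal (B ⊗[A] S)) [M.IsMaximal] :
    M.comap (Algebra.TensorProduct.includeLeftRingHom : B →+* B ⊗[A] S) = maximalIdeal B ∧
      M.comap (Algebra.TensorProduct.includeRight (R := A) (A := B) (B := S)).toRingHom = maximalIdeal S ∧
        fibreIdeal A B S ≤ M := by
  have h1 : M.comap (Algebra.TensorProduct.includeLeftRingHom : B →+* B ⊗[A] S) = maximalIdeal B :=
    eq_maximalIdeal (Ideal.isMaximal_comap_of_isIntegral_of_isMaximal (R := B) M)
  have h2 : M.comap (Algebra.TensorProduct.includeRight (R := A) (A := B) (B := S)).toRingHom = maximalIdeal S := by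
    haveI : (M.comap (Algebra.TensorProduct.includeRight (R := A) (A := B) (B := S)).toRingHom).IsPrime :=
      Ideal.IsPrime.comap _
    refine eq_maximalIdeal (Ideal.isMaximal_of_isIntegral_of_isMaximal_comap (R := A) _ ?_)
    have : (M.comap (Algebra.TensorProduct.includeRight (R := A) (A := B) (B := S)).toRingHom).comap (algebraMap A S) =
        maximalIdeal A := by
      ext a
      rw [Ideal.mem_comap, Ideal.mem_comap]
      refine Iff.trans ?_ (map_mem_nonunits_iff (algebraMap A B) a)
      show Algebra.TensorProduct.includeRight (R := A) (A := B) (B := S) (algebraMap A S a) ∈ M ↔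
        algebraMap A B a ∈ maximalIdeal B
      rw [AlgHom.commutes, ← h1]
      rfl
    rw [this]; exact maximalIdeal.isMaximal A
  exact ⟨h1, h2, sup_le (Ideal.map_le_iff_le_comap.2 h1.ge) (Ideal.map_le_iff_le_comap.2 h2.ge)⟩

variable [Module.Flat A B]

theorem exists_maximal_tensor : ∃ M : Ideal (B ⊗[A] S), M.IsMaximal := by
  haveI : Module.FaithfullyFlat A B := Module.FaithfullyFlat.of_flat_of_isLocalHom
  haveI : Nontrivial (B ⊗[A] S) := inferInstance
  exact Ideal.exists_maximal _

/-- Purely inseparable residue extension. -/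
theorem isLocalRing_tensor_of_purelyInseparable (q : ℕ) [ExpChar (ResidueField A) q]
    (hq : ∀ r : S, ∃ (n : ℕ) (a : A), r ^ q ^ n - algebraMap A S a ∈ maximalIdeal S) :
    IsLocalRing (B ⊗[A] S) := by
  obtain ⟨M₀, hM₀⟩ := exists_maximal_tensor (A := A) (B := B) (S := S)
  have hne : fibreIdeal A B S ≠ ⊤ := fun e => hM₀.ne_top (top_le_iff.1 (e.ge.trans (le_maximal M₀).2.2))
  haveI : Nontrivial (B ⊗[A] S ⧸ fibreIdeal A B S) := Ideal.Quotient.nontrivial_iff.2 hne
  let π := Ideal.Quotient.mk (fibreIdeal A B S)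
  let ψ : ResidueField A →+* B ⊗[A] S ⧸ fibreIdeal A B S :=
    Ideal.Quotient.lift (maximalIdeal A) (π.comp (algebraMap A (B ⊗[A] S))) fun a ha =>
      Ideal.Quotient.eq_zero_iff_mem.2 (map_maximalIdeal_mem ha)
  haveI : ExpChar (B ⊗[A] S ⧸ fibreIdeal A B S) q := expChar_of_injective_ringHom ψ.injective q
  have key : ∀ z : B ⊗[A] S, ∃ (n : ℕ) (b : B), π z ^ q ^ n = π (b ⊗ₜ[A] 1) := fun z => by
    induction z using TensorProduct.induction_on with
    | zero => exact ⟨0, 0, by rw [pow_zero, pow_one, TensorProduct.zero_tmul]⟩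
    | tmul b r =>
      obtain ⟨n, a, hn⟩ := hq r
      refine ⟨n, b ^ q ^ n * algebraMap A B a, ?_⟩
      rw [← map_pow, Algebra.TensorProduct.tmul_pow, Ideal.Quotient.eq]
      have : (b ^ q ^ n * algebraMap A B a) ⊗ₜ[A] (1 : S) = (b ^ q ^ n) ⊗ₜ[A] (algebraMap A S a) := by
        rw [mul_comm, ← Algebra.smul_def, TensorProduct.smul_tmul, Algebra.algebraMap_eq_smul_one]
      rw [this, ← TensorProduct.tmul_sub]
      rw [show (b ^ q ^ n) ⊗ₜ[A] (r ^ q ^ n - algebraMap A S a) =
        (b ^ q ^ n) ⊗ₜ[A] (1 : S) * ((1 : B) ⊗ₜ[A] (r ^ q ^ n - algebraMap A S a)) by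
          rw [Algebra.TensorProduct.tmul_mul_tmul, mul_one, one_mul]]
      exact Ideal.mul_mem_left _ _ (Ideal.mem_sup_right (Ideal.mem_map_of_mem
        (Algebra.TensorProduct.includeRight (R := A) (A := B) (B := S)).toRingHom hn))
    | add z w hz hw =>
      obtain ⟨n, b, hb⟩ := hz
      obtain ⟨m, c, hc⟩ := hw
      refine ⟨n + m, b ^ q ^ m + c ^ q ^ n, ?_⟩
      rw [map_add, add_pow_expChar_pow, TensorProduct.add_tmul, map_add, pow_add q n m, pow_mul, hb,
        mul_comm (q ^ n), pow_mul, hc, ← map_pow, ← map_pow, Algebra.TensorProduct.tmul_pow,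
        Algebra.TensorProduct.tmul_pow, one_pow, one_pow]
  refine IsLocalRing.of_unique_max_ideal ⟨M₀, hM₀, fun M hM => ?_⟩
  haveI := hM
  haveI := hM₀
  have hiff : ∀ (M : Ideal (B ⊗[A] S)) [M.IsMaximal] (z : B ⊗[A] S) (n : ℕ) (b : B),
      π z ^ q ^ n = π (b ⊗ₜ[A] 1) → (z ∈ M ↔ b ∈ maximalIdeal B) := by
    intro M _ z n b hb
    rw [← map_pow, Ideal.Quotient.eq] at hb
    have h := (le_maximal M).2.2 hb
    constructor
    · intro hz
      rw [← (le_maximal M).1, Ideal.mem_comap]
      show b ⊗ₜ[A] (1 : S) ∈ M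
      have := Ideal.sub_mem _ (Ideal.pow_mem_of_mem M hz (q ^ n) (Nat.pow_pos (expChar_pos (ResidueField A) q))) h
      simpa using this
    · intro hbm
      rw [← (le_maximal M).1, Ideal.mem_comap] at hbm
      refine (‹M.IsMaximal›.isPrime).mem_of_pow_mem (q ^ n) ?_
      have := Ideal.add_mem _ h (show b ⊗ₜ[A] (1 : S) ∈ M from hbm)
      simpa using this
  ext z
  obtain ⟨n, b, hb⟩ := key z
  rw [hiff M z n b hb, hiff M₀ z n b hb]

/-- Trivial residue extension upstairs. -/
theorem isLocalRing_tensor_of_residue_surjective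
    (hres : Function.Surjective ((residue B).comp (algebraMap A B))) : IsLocalRing (B ⊗[A] S) := by
  obtain ⟨M₀, hM₀⟩ := exists_maximal_tensor (A := A) (B := B) (S := S)
  have key : ∀ z : B ⊗[A] S, ∃ r : S, z - (1 : B) ⊗ₜ[A] r ∈ fibreIdeal A B S := fun z => by
    induction z using TensorProduct.induction_on with
    | zero => exact ⟨0, by rw [TensorProduct.tmul_zero, sub_zero]; exact zero_mem _⟩
    | tmul b r =>
      obtain ⟨a, ha⟩ := hres (residue B b)
      refine ⟨a • r, ?_⟩
      rw [← TensorProduct.smul_tmul, Algebra.smul_def, mul_one, ← TensorProduct.sub_tmul,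
        show (b - algebraMap A B a) ⊗ₜ[A] r = (b - algebraMap A B a) ⊗ₜ[A] (1 : S) * ((1 : B) ⊗ₜ[A] r) by
          rw [Algebra.TensorProduct.tmul_mul_tmul, mul_one, one_mul]]
      refine Ideal.mul_mem_right _ _ (Ideal.mem_sup_left
        (Ideal.mem_map_of_mem Algebra.TensorProduct.includeLeftRingHom ?_))
      rw [← residue_eq_zero_iff, map_sub, sub_eq_zero]
      exact ha.symm
    | add z w hz hw =>
      obtain ⟨r, hr⟩ := hz
      obtain ⟨s, hs⟩ := hw
      exact ⟨r + s, by rw [TensorProduct.tmul_add, add_sub_add_comm]; exact add_mem hr hs⟩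
  refine IsLocalRing.of_unique_max_ideal ⟨M₀, hM₀, fun M hM => ?_⟩
  haveI := hM
  haveI := hM₀
  ext z
  obtain ⟨r, hr⟩ := key z
  have : ∀ (M : Ideal (B ⊗[A] S)) [M.IsMaximal], z ∈ M ↔ r ∈ maximalIdeal S := by
    intro M _
    rw [← (le_maximal M).2.1, Ideal.mem_comap]
    exact Submodule.sub_mem_iff_left _ ((le_maximal M).2.2 hr) |>.symm.trans (by simp)
  rw [this M, this M₀]

theorem eq_zero_or_one_of_isLocalRing {R : Type u} [CommRing R] [IsLocalRing R] {y : R} (hy : IsIdempotentElem y) :
    y = 0 ∨ y = 1 := by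
  rcases IsLocalRing.isUnit_or_isUnit_of_add_one (add_sub_cancel y 1) with hu | hu
  · exact Or.inr (hu.mul_left_cancel (by rw [hy.eq, mul_one]))
  · exact Or.inl (hu.mul_left_cancel (by rw [sub_mul, one_mul, hy.eq, sub_self, mul_zero]))

end Groth.Agent.H06GRConn
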