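import Groth.Agent.H06GRConn.Valuation
import Groth.Agent.H06GRConn.Local
import Groth.Agent.H9Hens.FormalFibresConnected
import Groth.Prelude.Def_CAlg2

/-! Connectedness of the complement of sets with nowhere dense image, over geometrically unibranch local rings. -/

set_option autoImplicit false
set_option backward.isDefEq.respectTransparency false
set_option linter.style.haveILetI false
noncomputable section
universe u
open scoped TensorProduct
open IsLocalRing

namespace Groth.Agent.H06GRConn

variable {A B : Type u} [CommRing A] [CommRing B] [Algebra A B]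

open AlgebraicGeometry CategoryTheory in
theorem isReduced_tensor_of_geometricallyReduced
    [GeometricallyReduced (Spec.map (CommRingCat.ofHom (algebraMap A B)))] (L : Type u) [Field L] [Algebra A L] :
    _root_.IsReduced (B ⊗[A] L) := by
  haveI h : AlgebraicGeometry.IsReduced (Limits.pullback (Spec.map (CommRingCat.ofHom (algebraMap A B)))
      (Spec.map (CommRingCat.ofHom (algebraMap A L)))) :=
    GeometricallyReduced.geometrically_isReduced _ _ _ (.of_hasPullback _ _)
  haveI : AlgebraicGeometry.IsReduced (Spec (CommRingCat.of (B ⊗[A] L))) :=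
    isReduced_of_isOpenImmersion (pullbackSpecIso A B L).inv
  exact (affine_isReduced_iff _).1 this

variable [IsLocalRing A] [IsNoetherianRing A] [IsLocalRing B] [IsLocalHom (algebraMap A B)] [Module.Flat A B]

/-- Idempotents of the fibre over the generic point. -/
theorem eq_zero_or_one_generic (hA : CAlg2.IsGeomUnibranch A)
    (hred : ∀ (L : Type u) [Field L] [Algebra A L], IsReduced (B ⊗[A] L))
    {e : B ⊗[A] FractionRing (CAlg2.red A)} (he : IsIdempotentElem e) : e = 0 ∨ e = 1 := by
  haveI := hA.1.1
  haveI := hA.1.2
  haveI : IsLocalRing (CAlg2.red A) := IsLocalRing.of_surjective' _ Ideal.Quotient.mk_surjective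
  let D := CAlg2.red A
  let K := FractionRing D
  let S : Subalgebra D K := integralClosure D K
  haveI : IsLocalRing S := hA.1.2
  haveI : Algebra.IsIntegral A D := Algebra.IsIntegral.of_finite A D
  haveI : Algebra.IsIntegral A S := Algebra.IsIntegral.trans D
  obtain ⟨ι, val, hval⟩ := exists_krull_family D K
  let m' := maximalIdeal S
  let κ' := S ⧸ m'
  haveI : m'.IsMaximal := maximalIdeal.isMaximal S
  haveI : IsDomain κ' := Ideal.Quotient.isDomain m'
  let q := ringExpChar κ'
  let g : ResidueField A →+* κ' :=
    Ideal.Quotient.lift (maximalIdeal A) ((Ideal.Quotient.mk m').comp (algebraMap A S)) fun a ha => by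
      haveI : (m'.comap (algebraMap A S)).IsMaximal := Ideal.isMaximal_comap_of_isIntegral_of_isMaximal (R := A) m'
      refine Ideal.Quotient.eq_zero_iff_mem.2 ?_
      rwa [← Ideal.mem_comap, eq_maximalIdeal this]
  haveI : ExpChar (ResidueField A) q := g.expChar g.injective q
  haveI : IsLocalRing (B ⊗[A] S) := isLocalRing_tensor_of_purelyInseparable q fun r => by
    obtain ⟨n, a, ha⟩ := hA.2 m' (Ideal.Quotient.mk m' r)
    refine ⟨n, a, ?_⟩
    rw [← Ideal.Quotient.eq, map_pow]
    exact ha.symm
  obtain ⟨y, hy, rfl⟩ := exists_idempotent_eq hval hred he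
  rcases eq_zero_or_one_of_isLocalRing hy with rfl | rfl
  · exact Or.inl (map_zero _)
  · exact Or.inr (map_one _)

/-- The generic point of the base. -/
abbrev genericPt (hA : CAlg2.IsGeomUnibranch A) : PrimeSpectrum A :=
  ⟨nilradical A, by haveI := hA.1.1; exact (Ideal.Quotient.isDomain_iff_prime _).1 inferInstance⟩

theorem isConnected_generic_fibre (hA : CAlg2.IsGeomUnibranch A)
    (hred : ∀ (L : Type u) [Field L] [Algebra A L], IsReduced (B ⊗[A] L)) :
    IsConnected (PrimeSpectrum.comap (algebraMap A B) ⁻¹' {genericPt hA}) := by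
  haveI := hA.1.1
  haveI : Module.FaithfullyFlat A B := Module.FaithfullyFlat.of_flat_of_isLocalHom
  let η := genericPt hA
  let D := CAlg2.red A
  let K := FractionRing D
  haveI : Nontrivial (B ⊗[A] K) := inferInstance
  haveI h1 : ConnectedSpace (PrimeSpectrum (B ⊗[A] K)) :=
    H9Hens.connectedSpace_of_idempotents fun e he => eq_zero_or_one_generic hA hred he
  haveI : η.asIdeal.IsPrime := η.2
  let e : K ≃ₐ[A] η.asIdeal.ResidueField := (FractionRing.algEquiv D η.asIdeal.ResidueField).restrictScalars A
  haveI : ConnectedSpace (PrimeSpectrum (η.asIdeal.Fiber B)) :=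
    H02CA.GeomIrred.connectedSpace_of_ringEquiv
      ((Algebra.TensorProduct.comm A B K).trans (Algebra.TensorProduct.congr e AlgEquiv.refl)).toRingEquiv.symm h1
  haveI : ConnectedSpace (PrimeSpectrum.comap (algebraMap A B) ⁻¹' {η}) :=
    (PrimeSpectrum.preimageHomeomorphFiber A B η).symm.surjective.connectedSpace
      (PrimeSpectrum.preimageHomeomorphFiber A B η).symm.continuous
  exact isConnected_iff_connectedSpace.2 this

omit [IsNoetherianRing A] [IsLocalRing B] [IsLocalHom (algebraMap A B)] in
/-- Every point generalizes to the fibre over the generic point. -/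
theorem mem_closure_generic_fibre (hA : CAlg2.IsGeomUnibranch A) (x : PrimeSpectrum B) :
    x ∈ closure (PrimeSpectrum.comap (algebraMap A B) ⁻¹' {genericPt hA}) := by
  haveI := (genericPt hA).2
  obtain ⟨Q, hQ, hQp, hQo⟩ := Ideal.exists_ideal_le_liesOver_of_le (p := (genericPt hA).asIdeal)
    (q := x.asIdeal.under A) x.asIdeal (nilradical_le_prime _)
  refine ((PrimeSpectrum.le_iff_specializes ⟨Q, hQp⟩ x).1 hQ).mem_closed isClosed_closure (subset_closure ?_)
  exact PrimeSpectrum.ext hQo.over.symm

theorem isConnected_compl (hA : CAlg2.IsGeomUnibranch A)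
    (hred : ∀ (L : Type u) [Field L] [Algebra A L], IsReduced (B ⊗[A] L)) (T : Set (PrimeSpectrum B))
    (hT : genericPt hA ∉ PrimeSpectrum.comap (algebraMap A B) '' T) : IsConnected Tᶜ :=
  (isConnected_generic_fibre hA hred).subset_closure (fun x hx h => hT ⟨x, h, hx⟩)
    fun x _ => mem_closure_generic_fibre hA x

omit [IsNoetherianRing A] in
theorem genericPt_not_mem (hA : CAlg2.IsGeomUnibranch A) {U : Set (PrimeSpectrum A)}
    (hU : interior (closure U) = ∅) : genericPt hA ∉ U := fun h => by
  have : closure U = Set.univ := Set.eq_univ_of_forall fun x =>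
    ((PrimeSpectrum.le_iff_specializes (genericPt hA) x).1 (nilradical_le_prime x.asIdeal)).mem_closed
      isClosed_closure (subset_closure h)
  rw [this, interior_univ] at hU
  exact Set.univ_nonempty.ne_empty hU

end Groth.Agent.H06GRConn
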