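import Groth.Agent.H06GRConn.GeomUnibranch
import Groth.Agent.H22Alg.GeomReducedAt

/-! Connectedness of complements over schemes with geometrically unibranch local rings. -/

set_option autoImplicit false
set_option backward.isDefEq.respectTransparency false
set_option linter.style.haveILetI false
noncomputable section
universe u
open AlgebraicGeometry CategoryTheory CategoryTheory.Limits TopologicalSpace
open scoped TensorProduct

namespace Groth.Agent.H06GRConn

variable {X Y : Scheme.{u}}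

theorem isReduced_stalk_tensor (f : X ⟶ Y) [GeometricallyReduced f] (x : X) (L : Type u) [Field L] :
    letI := (f.stalkMap x).hom.toAlgebra
    ∀ [Algebra (Y.presheaf.stalk (f x)) L], _root_.IsReduced (X.presheaf.stalk x ⊗[Y.presheaf.stalk (f x)] L) := by
  letI := (f.stalkMap x).hom.toAlgebra
  intro _
  let R := Y.presheaf.stalk (f x)
  let ψ := Spec.map (CommRingCat.ofHom (algebraMap R L))
  let σ := ψ ≫ Y.fromSpecStalk (f x)
  haveI : AlgebraicGeometry.IsReduced (pullback f σ) :=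
    GeometricallyReduced.geometrically_isReduced _ _ _ (.of_hasPullback _ _)
  haveI : ∀ e, _root_.IsReduced ((pullback (X.fromSpecStalk x ≫ f) σ).presheaf.stalk e) := fun e =>
    (H22Alg.GeomReducedAt.isReduced_stalk_iff f σ x e).2 inferInstance
  haveI : AlgebraicGeometry.IsReduced (pullback (X.fromSpecStalk x ≫ f) σ) := isReduced_of_isReduced_stalk _
  let m := pullback.map (Spec.map (CommRingCat.ofHom (algebraMap R (X.presheaf.stalk x)))) ψ
    (X.fromSpecStalk x ≫ f) σ (𝟙 _) (𝟙 _) (Y.fromSpecStalk (f x))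
    ((Scheme.SpecMap_stalkMap_fromSpecStalk (f := f) (x := x)).trans (Category.id_comp _).symm)
    (Category.id_comp _).symm
  haveI : AlgebraicGeometry.IsReduced (Spec (CommRingCat.of (X.presheaf.stalk x ⊗[R] L))) :=
    isReduced_of_isOpenImmersion ((pullbackSpecIso R (X.presheaf.stalk x) L).inv ≫ m)
  exact (affine_isReduced_iff _).1 this

variable (Y) in
/-- The maximal points. -/
def maximalPoints : Set Y := {y | ∀ y', y' ⤳ y → y' = y}

variable [IsLocallyNoetherian Y]

theorem eq_of_mem_maximalPoints {y : Y} (hy : CAlg2.IsGeomUnibranch (Y.presheaf.stalk y))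
    (r : PrimeSpectrum (Y.presheaf.stalk y)) :
    Y.fromSpecStalk y r ∈ maximalPoints Y ↔ r = genericPt hy := by
  have hle : genericPt hy ⤳ r := (PrimeSpectrum.le_iff_specializes _ _).1 (nilradical_le_prime r.asIdeal)
  have hemb := (Y.fromSpecStalk y).isEmbedding
  constructor
  · exact fun h => (hemb.injective (h _ (hle.map (Y.fromSpecStalk y).continuous))).symm
  · rintro rfl y' hy'
    obtain ⟨s, rfl⟩ : y' ∈ Set.range (Y.fromSpecStalk y) := by
      rw [Scheme.range_fromSpecStalk]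
      have : Y.fromSpecStalk y (genericPt hy) ∈ Set.range (Y.fromSpecStalk y) := ⟨_, rfl⟩
      rw [Scheme.range_fromSpecStalk] at this
      exact hy'.trans this
    refine congrArg _ (PrimeSpectrum.ext (le_antisymm ?_ (nilradical_le_prime s.asIdeal)))
    exact (PrimeSpectrum.le_iff_specializes _ _).2 (hemb.toIsInducing.specializes_iff.1 hy')

theorem exists_isConnected_generization (hY : ∀ y : Y, CAlg2.IsGeomUnibranch (Y.presheaf.stalk y))
    (f : X ⟶ Y) [Flat f] [GeometricallyReduced f] (x : X) :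
    _root_.IsConnected {w | w ⤳ x ∧ f w ∈ maximalPoints Y} ∧ x ∈ closure {w | w ⤳ x ∧ f w ∈ maximalPoints Y} := by
  letI := (f.stalkMap x).hom.toAlgebra
  haveI : IsLocalHom (algebraMap (Y.presheaf.stalk (f x)) (X.presheaf.stalk x)) :=
    inferInstanceAs (IsLocalHom (f.stalkMap x).hom)
  haveI : Module.Flat (Y.presheaf.stalk (f x)) (X.presheaf.stalk x) := Flat.stalkMap f x
  let φ := PrimeSpectrum.comap (algebraMap (Y.presheaf.stalk (f x)) (X.presheaf.stalk x))
  have hf : ∀ q, f (X.fromSpecStalk x q) = Y.fromSpecStalk (f x) (φ q) := fun q => by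
    rw [← Scheme.Hom.comp_apply, ← Scheme.SpecMap_stalkMap_fromSpecStalk, Scheme.Hom.comp_apply]
    rfl
  have hP : {w | w ⤳ x ∧ f w ∈ maximalPoints Y} = X.fromSpecStalk x '' (φ ⁻¹' {genericPt (hY (f x))}) := by
    ext w
    constructor
    · rintro ⟨hw, hm⟩
      obtain ⟨q, rfl⟩ : w ∈ Set.range (X.fromSpecStalk x) := by rw [Scheme.range_fromSpecStalk]; exact hw
      rw [hf] at hm
      exact ⟨q, (eq_of_mem_maximalPoints (hY (f x)) _).1 hm, rfl⟩
    · rintro ⟨q, hq, rfl⟩
      refine ⟨?_, ?_⟩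
      · have : X.fromSpecStalk x q ∈ Set.range (X.fromSpecStalk x) := ⟨_, rfl⟩
        rwa [Scheme.range_fromSpecStalk] at this
      · rw [hf]
        exact (eq_of_mem_maximalPoints (hY (f x)) _).2 hq
  rw [hP]
  refine ⟨(isConnected_generic_fibre (hY (f x)) fun L _ _ => isReduced_stalk_tensor f x L).image _
    (X.fromSpecStalk x).continuous.continuousOn, ?_⟩
  exact image_closure_subset_closure_image (X.fromSpecStalk x).continuous
    ⟨_, mem_closure_generic_fibre (hY (f x)) (IsLocalRing.closedPoint _), Scheme.fromSpecStalk_closedPoint⟩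

theorem mem_interior_closure {y : Y} (hy : y ∈ maximalPoints Y) : y ∈ interior (closure {y}) := by
  obtain ⟨_, ⟨U, hU, rfl⟩, hyU, -⟩ :=
    Y.isBasis_affineOpens.exists_subset_of_mem_open (Set.mem_univ y) isOpen_univ
  haveI : IsNoetherianRing Γ(Y, U) := IsLocallyNoetherian.component_noetherian ⟨U, hU⟩
  let R := Γ(Y, U)
  let j := hU.fromSpec
  obtain ⟨p, rfl⟩ : y ∈ Set.range j := by rw [hU.range_fromSpec]; exact hyU
  have hfin := minimalPrimes.finite_of_isNoetherianRing R
  let W : Set (PrimeSpectrum R) := (⋃ q ∈ minimalPrimes R \ {p.asIdeal}, PrimeSpectrum.zeroLocus (q : Set R))ᶜ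
  have hW : IsOpen W :=
    (((hfin.subset Set.diff_subset).isClosed_biUnion fun q _ => PrimeSpectrum.isClosed_zeroLocus _)).isOpen_compl
  have hpW : p ∈ W := by
    intro hmem
    simp only [Set.mem_iUnion] at hmem
    obtain ⟨q, ⟨hq, hne⟩, hqp⟩ := hmem
    haveI : q.IsPrime := hq.1.1
    have hsp : (⟨q, hq.1.1⟩ : PrimeSpectrum R) ⤳ p := (PrimeSpectrum.le_iff_specializes _ _).1 hqp
    exact hne (congrArg PrimeSpectrum.asIdeal (j.isOpenEmbedding.injective (hy _ (hsp.map j.continuous))))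
  refine mem_interior.2 ⟨j '' W, ?_, j.isOpenEmbedding.isOpenMap _ hW, p, hpW, rfl⟩
  rintro _ ⟨q, hq, rfl⟩
  obtain ⟨P, hP, hPq⟩ := Ideal.exists_minimalPrimes_le (bot_le : (⊥ : Ideal R) ≤ q.asIdeal)
  have : P = p.asIdeal := by
    by_contra hne
    exact hq (Set.mem_iUnion₂.2 ⟨P, ⟨hP, hne⟩, hPq⟩)
  subst this
  exact specializes_iff_mem_closure.1 (((PrimeSpectrum.le_iff_specializes p q).1 hPq).map j.continuous)

/-- Sets stable under generization and specialization in a locally noetherian scheme are open. -/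
theorem isOpen_of_specializes_iff [IsLocallyNoetherian X] {A : Set X}
    (h : ∀ z w : X, z ⤳ w → (z ∈ A ↔ w ∈ A)) : IsOpen A := by
  rw [isOpen_iff_forall_mem_open]
  intro x hx
  obtain ⟨_, ⟨U, hU, rfl⟩, hxU, -⟩ :=
    X.isBasis_affineOpens.exists_subset_of_mem_open (Set.mem_univ x) isOpen_univ
  haveI : IsNoetherianRing Γ(X, U) := IsLocallyNoetherian.component_noetherian ⟨U, hU⟩
  let R := Γ(X, U)
  let j := hU.fromSpec
  obtain ⟨p, rfl⟩ : x ∈ Set.range j := by rw [hU.range_fromSpec]; exact hxU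
  let bad : Set (Ideal R) := {q | ∃ hq : q ∈ minimalPrimes R, j ⟨q, hq.1.1⟩ ∉ A}
  have hfin : bad.Finite := (minimalPrimes.finite_of_isNoetherianRing R).subset fun q hq => hq.1
  let W : Set (PrimeSpectrum R) := (⋃ q ∈ bad, PrimeSpectrum.zeroLocus (q : Set R))ᶜ
  have hWeq : W = j ⁻¹' A := by
    ext q
    constructor
    · intro hq
      obtain ⟨P, hP, hPq⟩ := Ideal.exists_minimalPrimes_le (bot_le : (⊥ : Ideal R) ≤ q.asIdeal)
      have hs : j ⟨P, hP.1.1⟩ ⤳ j q :=
        ((PrimeSpectrum.le_iff_specializes ⟨P, hP.1.1⟩ q).1 hPq).map j.continuous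
      by_contra hqA
      exact hq (Set.mem_iUnion₂.2 ⟨P, ⟨hP, fun hA => hqA ((h _ _ hs).1 hA)⟩, hPq⟩)
    · intro hq hmem
      simp only [Set.mem_iUnion] at hmem
      obtain ⟨P, ⟨hP, hPA⟩, hPq⟩ := hmem
      exact hPA ((h _ _ (((PrimeSpectrum.le_iff_specializes ⟨P, hP.1.1⟩ q).1 hPq).map j.continuous)).2 hq)
  refine ⟨j '' W, ?_, j.isOpenEmbedding.isOpenMap _
    (hfin.isClosed_biUnion fun q _ => PrimeSpectrum.isClosed_zeroLocus _).isOpen_compl, ?_⟩
  · rw [hWeq]; exact Set.image_preimage_subset _ _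
  · exact ⟨p, hWeq ▸ hx, rfl⟩

/-- Connected complements, given connected sets of maximal generizations. -/
theorem isConnected_compl_of_generizations [IsLocallyNoetherian X] [ConnectedSpace ↥X] (M T : Set X)
    (hMT : M ⊆ Tᶜ) (hc : ∀ x : X, _root_.IsConnected {w | w ⤳ x ∧ w ∈ M})
    (hcl : ∀ x : X, x ∈ closure {w | w ⤳ x ∧ w ∈ M}) : _root_.IsConnected Tᶜ := by
  refine ⟨?_, fun U V hU hV hcov hUne hVne => ?_⟩
  · obtain ⟨w, -, hw⟩ := (hc Classical.ofNonempty).1
    exact ⟨w, hMT hw⟩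
  by_contra hcon
  rw [Set.not_nonempty_iff_eq_empty] at hcon
  let P : X → Set X := fun x => {w | w ⤳ x ∧ w ∈ M}
  have hsub : ∀ x, P x ⊆ Tᶜ := fun x w hw => hMT hw.2
  have hor : ∀ x, P x ⊆ U ∨ P x ⊆ V := fun x => by
    by_contra h'
    push Not at h'
    obtain ⟨a, haP, haU⟩ := Set.not_subset.1 h'.1
    obtain ⟨b, hbP, hbV⟩ := Set.not_subset.1 h'.2
    obtain ⟨c, hcP, hc'⟩ := (hc x).2 U V hU hV ((hsub x).trans hcov)
      ⟨b, hbP, (hcov (hsub x hbP)).resolve_right hbV⟩ ⟨a, haP, (hcov (hsub x haP)).resolve_left haU⟩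
    exact Set.eq_empty_iff_forall_notMem.1 hcon c ⟨hsub x hcP, hc'⟩
  have hexcl : ∀ x, ¬(P x ⊆ U ∧ P x ⊆ V) := fun x h => by
    obtain ⟨w, hw⟩ := (hc x).1
    exact Set.eq_empty_iff_forall_notMem.1 hcon w ⟨hsub x hw, h.1 hw, h.2 hw⟩
  let A : Set X := {x | P x ⊆ U}
  have hA : ∀ z w : X, z ⤳ w → (z ∈ A ↔ w ∈ A) := fun z w hzw => by
    have hzw' : P z ⊆ P w := fun v hv => ⟨hv.1.trans hzw, hv.2⟩
    exact ⟨fun hz => (hor w).resolve_right fun hw => hexcl z ⟨hz, hzw'.trans hw⟩, fun hw => hzw'.trans hw⟩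
  have hclopen : IsClopen A := ⟨isOpen_compl_iff.1
    (isOpen_of_specializes_iff fun z w h => not_congr (hA z w h)), isOpen_of_specializes_iff hA⟩
  have hmeet : ∀ (O : Set X), IsOpen O → ∀ x ∈ O, ∃ w ∈ P x, w ∈ O := fun O hO x hx => by
    obtain ⟨w, hwO, hwP⟩ := mem_closure_iff.1 (hcl x) O hO hx
    exact ⟨w, hwP, hwO⟩
  rcases isClopen_iff.1 hclopen with h0 | h1
  · obtain ⟨x, hxT, hxU⟩ := hUne
    obtain ⟨w, hw, hwU⟩ := hmeet U hU x hxU
    have : P x ⊆ V := (hor x).resolve_left fun h => Set.eq_empty_iff_forall_notMem.1 h0 x h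
    exact Set.eq_empty_iff_forall_notMem.1 hcon w ⟨hsub x hw, hwU, this hw⟩
  · obtain ⟨x, hxT, hxV⟩ := hVne
    obtain ⟨w, hw, hwV⟩ := hmeet V hV x hxV
    have : P x ⊆ U := (Set.ext_iff.1 h1 x).2 trivial
    exact Set.eq_empty_iff_forall_notMem.1 hcon w ⟨hsub x hw, this hw, hwV⟩

theorem isConnected_compl_scheme [IsLocallyNoetherian X] [ConnectedSpace ↥X]
    (hY : ∀ y : Y, CAlg2.IsGeomUnibranch (Y.presheaf.stalk y))
    (f : X ⟶ Y) [Flat f] [GeometricallyReduced f] (T : Set X)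
    (hT : interior (closure (f '' T)) = ∅) : _root_.IsConnected Tᶜ := by
  refine isConnected_compl_of_generizations (f ⁻¹' maximalPoints Y) T (fun w hw hwT => ?_)
    (fun x => (exists_isConnected_generization hY f x).1) (fun x => (exists_isConnected_generization hY f x).2)
  have : f w ∈ interior (closure (f '' T)) :=
    interior_mono (closure_mono (Set.singleton_subset_iff.2 (Set.mem_image_of_mem f hwT))) (mem_interior_closure hw)
  rw [hT] at this
  exact this

end Groth.Agent.H06GRConn
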