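import Groth.Agent.H06GRConn.GeomUnibranch

/-! Geometrically connected fibres of flat local homomorphisms out of henselian rings. -/

set_option autoImplicit false
set_option backward.isDefEq.respectTransparency false
set_option linter.style.haveILetI false
noncomputable section
universe u
open scoped TensorProduct
open IsLocalRing

namespace Groth.Agent.H06GRConn

variable {A B : Type u} [CommRing A] [CommRing B] [Algebra A B] [HenselianLocalRing A] [IsNoetherianRing A]
  [IsLocalRing B] [IsLocalHom (algebraMap A B)] [Module.Flat A B]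

omit [IsNoetherianRing A] in
/-- Integral domains over henselian local rings are local. -/
theorem isLocalRing_of_isIntegral (S : Type u) [CommRing S] [IsDomain S] [Algebra A S] [Algebra.IsIntegral A S] :
    IsLocalRing S := by
  obtain ⟨M, hM⟩ := Ideal.exists_maximal S
  exact IsLocalRing.of_unique_max_ideal ⟨M, hM, fun N hN =>
    @H9Hens.maximal_eq_of_prime_le_of_isIntegral A _ _ S _ _ _ ⊥ Ideal.isPrime_bot _ _ hN hM bot_le bot_le⟩

theorem eq_zero_or_one_finite (hred : ∀ (L : Type u) [Field L] [Algebra A L], IsReduced (B ⊗[A] L))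
    (hloc : ∀ (S : Type u) [CommRing S] [IsDomain S] [IsLocalRing S] [Algebra A S] [Algebra.IsIntegral A S],
      IsLocalRing (B ⊗[A] S))
    (p : Ideal A) [p.IsPrime] (L : Type u) [Field L] [Algebra A L] [Algebra p.ResidueField L]
    [IsScalarTower A p.ResidueField L] [FiniteDimensional p.ResidueField L]
    {e : B ⊗[A] L} (he : IsIdempotentElem e) : e = 0 ∨ e = 1 := by
  classical
  let Q := A ⧸ p
  let K := p.ResidueField
  let : Algebra Q L := ((algebraMap K L).comp (algebraMap Q K)).toAlgebra
  haveI : IsScalarTower Q K L := IsScalarTower.of_algebraMap_eq fun _ => rfl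
  haveI : IsScalarTower A Q L := IsScalarTower.of_algebraMap_eq fun a => by
    show algebraMap A L a = algebraMap K L (algebraMap Q K (algebraMap A Q a))
    rw [← IsScalarTower.algebraMap_apply A Q K, IsScalarTower.algebraMap_apply A K L]
  obtain ⟨s, b, hb⟩ := FiniteDimensional.exists_is_basis_integral Q K L
  let C := Algebra.adjoin Q (Set.range b)
  haveI : Module.Finite Q C := Algebra.finite_adjoin_of_finite_of_isIntegral (Set.finite_range b)
    (by rintro _ ⟨i, rfl⟩; exact hb i)
  haveI : IsNoetherianRing C := IsNoetherianRing.of_finite Q C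
  haveI : Module.Finite A C := Module.Finite.trans Q C
  haveI : Algebra.IsIntegral A C := Algebra.IsIntegral.of_finite A C
  haveI : IsLocalRing C := isLocalRing_of_isIntegral (A := A) C
  haveI : IsFractionRing C L := IsFractionRing.of_field C L fun z => by
    obtain ⟨d, hd⟩ := IsLocalization.exist_integer_multiples_of_finite (nonZeroDivisors Q) fun i => b.repr z i
    have hd0 : algebraMap Q L (d : Q) ≠ 0 := by
      rw [IsScalarTower.algebraMap_apply Q K L]
      exact (map_ne_zero_iff _ (algebraMap K L).injective).2 (IsLocalization.map_units K d).ne_zero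
    have hz : algebraMap Q L (d : Q) * z ∈ C := by
      have hs : algebraMap Q L (d : Q) * z = ∑ i, algebraMap Q L (d : Q) * (b.repr z i • b i) := by
        rw [← Finset.mul_sum, b.sum_repr]
      rw [hs]
      refine sum_mem fun i _ => ?_
      obtain ⟨r, hr⟩ := hd i
      rw [← Algebra.smul_def, ← smul_assoc, ← hr, algebraMap_smul]
      exact Subalgebra.smul_mem _ (Algebra.subset_adjoin (Set.mem_range_self i)) r
    exact ⟨⟨_, hz⟩, algebraMap Q C (d : Q), (eq_div_iff hd0).2 (mul_comm _ _)⟩
  let S : Subalgebra C L := integralClosure C L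
  haveI : Algebra.IsIntegral A S := Algebra.IsIntegral.trans C
  haveI : IsLocalRing S := isLocalRing_of_isIntegral (A := A) S
  haveI : IsLocalRing (B ⊗[A] S) := hloc S
  obtain ⟨ι, val, hval⟩ := exists_krull_family C L
  obtain ⟨y, hy, rfl⟩ := exists_idempotent_eq hval hred he
  rcases eq_zero_or_one_of_isLocalRing hy with rfl | rfl
  · exact Or.inl (map_zero _)
  · exact Or.inr (map_one _)

omit [IsNoetherianRing A] [IsLocalHom (algebraMap A B)] [Module.Flat A B] in
theorem hloc_of_isSepClosed [IsLocalHom (algebraMap A B)] [Module.Flat A B] [IsSepClosed (ResidueField A)]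
    (S : Type u) [CommRing S] [IsDomain S] [IsLocalRing S] [Algebra A S] [Algebra.IsIntegral A S] :
    IsLocalRing (B ⊗[A] S) := by
  let m' := maximalIdeal S
  haveI : m'.IsMaximal := maximalIdeal.isMaximal S
  haveI : IsLocalHom (algebraMap A S) := by
    refine ((IsLocalRing.local_hom_TFAE (algebraMap A S)).out 4 0).1 ?_
    haveI : (m'.comap (algebraMap A S)).IsMaximal := Ideal.isMaximal_comap_of_isIntegral_of_isMaximal (R := A) m'
    exact eq_maximalIdeal this
  let k := ResidueField A
  let k' := ResidueField S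
  let q := ringExpChar k
  haveI : Algebra.IsIntegral A k' := Algebra.IsIntegral.trans S
  haveI : Algebra.IsIntegral k k' := Algebra.IsIntegral.tower_top A
  haveI : Algebra.IsAlgebraic k k' := Algebra.IsIntegral.isAlgebraic
  refine isLocalRing_tensor_of_purelyInseparable q fun r => ?_
  obtain ⟨n, c, hc⟩ := IsPurelyInseparable.pow_mem k q (residue S r)
  obtain ⟨a, rfl⟩ := residue_surjective c
  refine ⟨n, a, ?_⟩
  rw [← residue_eq_zero_iff, map_sub, map_pow, sub_eq_zero, ← hc]
  rfl

theorem connectedSpace_tensor (hred : ∀ (L : Type u) [Field L] [Algebra A L], IsReduced (B ⊗[A] L))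
    (hloc : ∀ (S : Type u) [CommRing S] [IsDomain S] [IsLocalRing S] [Algebra A S] [Algebra.IsIntegral A S],
      IsLocalRing (B ⊗[A] S))
    (K : Type u) [Field K] [Algebra A K] : ConnectedSpace (PrimeSpectrum (K ⊗[A] B)) := by
  classical
  haveI : Module.FaithfullyFlat A B := Module.FaithfullyFlat.of_flat_of_isLocalHom
  let p := RingHom.ker (algebraMap A K)
  haveI : p.IsPrime := RingHom.ker_isPrime _
  let κ := p.ResidueField
  let : Algebra κ K := (Ideal.ResidueField.lift p (algebraMap A K) le_rfl fun x hx =>
    isUnit_iff_ne_zero.mpr fun h0 => hx h0).toAlgebra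
  haveI : IsScalarTower A κ K :=
    .of_algebraMap_eq fun a => (Ideal.ResidueField.lift_algebraMap (I := p) (algebraMap A K) le_rfl _ a).symm
  let R := κ ⊗[A] B
  haveI : Nontrivial R := show Nontrivial (κ ⊗[A] B) from inferInstance
  let kb := AlgebraicClosure κ
  haveI : ConnectedSpace (PrimeSpectrum (kb ⊗[κ] R)) := by
    haveI : Nontrivial (kb ⊗[κ] R) := inferInstance
    refine H9Hens.connectedSpace_of_idempotents (R := kb ⊗[κ] R) fun e he => ?_
    obtain ⟨L, hL, ⟨e', he'⟩, -⟩ := H02CA.GeomIrred.exists_finite_subextension e e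
    have hinj := H02CA.GeomIrred.map_val_injective L R
    have he'2 : IsIdempotentElem e' :=
      hinj (by rw [map_mul]; exact (congrArg₂ (· * ·) he' he').trans (he.eq.trans he'.symm))
    let e1 : L ⊗[κ] (κ ⊗[A] B) ≃+* B ⊗[A] L :=
      (Algebra.TensorProduct.cancelBaseChange A κ L L B).toRingEquiv.trans
        (Algebra.TensorProduct.comm A L B).toRingEquiv
    rcases eq_zero_or_one_finite hred hloc p L (he'2.map e1) with h0 | h1
    · left; rw [← he', (map_eq_zero_iff _ e1.injective).1 h0, map_zero]
    · right; rw [← he', (map_eq_one_iff _ e1.injective).1 h1, map_one]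
  let Ω := AlgebraicClosure K
  let j : kb →ₐ[κ] Ω := IsAlgClosed.lift
  let : Algebra kb Ω := j.toRingHom.toAlgebra
  haveI : IsScalarTower κ kb Ω := IsScalarTower.of_algebraMap_eq fun x => (j.commutes x).symm
  haveI : ConnectedSpace (PrimeSpectrum (Ω ⊗[κ] R)) :=
    H02CA.GeomIrred.connectedSpace_of_ringEquiv
      (Algebra.TensorProduct.cancelBaseChange κ kb Ω Ω R).symm.toRingEquiv
      (H02CA.GeomIrred.connectedSpace_of_isSepClosed (k := kb) (kb ⊗[κ] R) Ω)
  refine H02CA.GeomIrred.connectedSpace_of_ringEquiv
    (Algebra.TensorProduct.cancelBaseChange A κ K K B).symm.toRingEquiv ?_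
  haveI : Nontrivial (K ⊗[κ] R) := inferInstance
  refine H9Hens.connectedSpace_of_idempotents (R := K ⊗[κ] R) fun e he => ?_
  let F := Algebra.TensorProduct.map (IsScalarTower.toAlgHom κ K Ω) (AlgHom.id κ R)
  have hF : Function.Injective F :=
    Module.Flat.rTensor_preserves_injective_linearMap _ (algebraMap K Ω).injective
  rcases H9Hens.idempotent_eq_of_connectedSpace (R := Ω ⊗[κ] R) (he.map F) with h0 | h1
  · left; exact (map_eq_zero_iff _ hF).mp h0
  · right; exact (map_eq_one_iff _ hF).mp h1

end Groth.Agent.H06GRConn
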