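import Groth.Agent.H06GRConn.Global

/-! Connectedness of punctured spectra of flat algebras over geometrically unibranch rings of dimension at least two. -/

set_option autoImplicit false
set_option backward.isDefEq.respectTransparency false
set_option linter.style.haveILetI false
noncomputable section
universe u v
open scoped TensorProduct WithZero
open IsLocalRing Groth.Agent.H3CAlg.Mori

namespace Groth.Agent.H06GRConn

section
variable {A B C K : Type u} [CommRing A] [CommRing B] [Algebra A B] [Module.Flat A B]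
  [CommRing C] [Field K] [Algebra C K] [Algebra A C] [Algebra A K] [IsScalarTower A C K]
  {S : Subalgebra C K} {ι : Type v} {val : ι → Valuation K ℤᵐ⁰}

variable (A) in
/-- The valuation ring as a subalgebra. -/
def valSubalgebra (h : IsKrullFamily S val) (i : ι) : Subalgebra A K :=
  { (val i).valuationSubring.toSubring with
    algebraMap_mem' := fun a => h.le_one i ⟨algebraMap A K a, by
      rw [IsScalarTower.algebraMap_apply A C K]; exact S.algebraMap_mem _⟩ }

/-- A centre which is a minimal nonzero prime. -/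
def IsMinCen (h : IsKrullFamily S val) (i : ι) : Prop :=
  h.cen i ≠ ⊥ ∧ ∀ P : Ideal S, P.IsPrime → P ≠ ⊥ → P ≤ h.cen i → P = h.cen i

theorem exists_idempotent_eq_of_minimal (h : IsKrullFamily S val) {e : B ⊗[A] K} (he : IsIdempotentElem e)
    (hloc : ∀ i, IsMinCen h i →
      e ∈ (Algebra.TensorProduct.map (AlgHom.id A B) (valSubalgebra A h i).val).range) :
    ∃ y : B ⊗[A] S, IsIdempotentElem y ∧
      Algebra.TensorProduct.map (AlgHom.id A B) (S.val.restrictScalars A) y = e := by
  classical
  obtain ⟨a, x, ha, hx⟩ := exists_denominator h e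
  set F := Algebra.TensorProduct.map (AlgHom.id A B) (S.val.restrictScalars A)
  have ha' : (a : K) ≠ 0 := fun e' => ha (Subtype.ext e')
  let J := {i : ι // val i (a : K) < 1 ∧ IsMinCen h i}
  haveI : Fintype J := ((h.finite _ ha').subset fun i hi => ne_of_lt hi.1).fintype
  let φ : ∀ i : J, S →ₐ[A] valSubalgebra A h i.1 := fun i =>
    (S.val.restrictScalars A).codRestrict _ fun s => h.le_one i.1 s
  obtain ⟨y, hy⟩ : ∃ y, x = y * ((1 : B) ⊗ₜ[A] a) := by
    refine exists_eq_mul_of_local (fun i : J => ↥(valSubalgebra A h i.1)) φ a (fun r hr => ?_) x fun i => ?_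
    · have hq : (r : K) / (a : K) ∈ S := by
        refine h.mem_of_minimal fun i hi hmin => ?_
        rw [map_div₀, div_le_one₀ (zero_lt_iff.2 ((Valuation.ne_zero_iff _).2 ha'))]
        by_cases hia : val i (a : K) < 1
        · obtain ⟨c, hc⟩ := hr ⟨i, hia, hi, hmin⟩
          have hc' : (r : K) = (a : K) * (c : K) := congrArg Subtype.val hc
          rw [hc', map_mul]
          exact mul_le_of_le_one_right' c.2
        · rw [le_antisymm (h.le_one i a) (not_lt.1 hia)]
          exact h.le_one i r
      exact ⟨⟨_, hq⟩, Subtype.ext (mul_div_cancel₀ (r : K) ha').symm⟩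
    · obtain ⟨y, hy⟩ := hloc i.1 i.2.2
      have hinj : Function.Injective (Algebra.TensorProduct.map (AlgHom.id A B) (valSubalgebra A h i.1).val) :=
        Module.Flat.lTensor_preserves_injective_linearMap (valSubalgebra A h i.1).val.toLinearMap
          Subtype.val_injective
      refine ⟨y, hinj ?_⟩
      rw [map_mul, show (Algebra.TensorProduct.map (AlgHom.id A B) (valSubalgebra A h i.1).val) y = e from hy,
        ← AlgHom.comp_apply, ← Algebra.TensorProduct.map_comp]
      exact hx
  have hFa : F ((1 : B) ⊗ₜ[A] a) = (1 : B) ⊗ₜ[A] (a : K) := rfl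
  have hu : IsUnit ((1 : B) ⊗ₜ[A] (a : K)) :=
    (isUnit_iff_ne_zero.2 ha').map (Algebra.TensorProduct.includeRight (R := A) (A := B) (B := K))
  have hye : F y = e := hu.mul_right_cancel (by rw [← hx, hy, map_mul, hFa])
  exact ⟨y, map_val_injective (by rw [map_mul, hye, he.eq]), hye⟩

end

section
variable {A B : Type u} [CommRing A] [IsNoetherianRing A] [IsLocalRing A] [IsDomain A] [CommRing B] [Algebra A B]
  [IsLocalRing B] [IsLocalHom (algebraMap A B)] [Module.Flat A B]

omit [IsNoetherianRing A] in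
theorem exists_prime_between (hdim : 2 ≤ ringKrullDim A) :
    ∃ p : Ideal A, p.IsPrime ∧ p ≠ ⊥ ∧ p ≠ maximalIdeal A := by
  obtain ⟨l, hl⟩ := (Order.le_krullDim_iff (n := 2)).1 hdim
  refine ⟨(l ⟨1, by omega⟩).asIdeal, (l ⟨1, by omega⟩).2, fun h => ?_, fun h => ?_⟩
  · have h1 : (l ⟨0, by omega⟩).asIdeal < (l ⟨1, by omega⟩).asIdeal := l.strictMono (Fin.mk_lt_mk.2 one_pos)
    exact not_lt_bot (h ▸ h1)
  · have h1 : (l ⟨1, by omega⟩).asIdeal < (l ⟨2, by omega⟩).asIdeal := l.strictMono (Fin.mk_lt_mk.2 one_lt_two)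
    exact (h ▸ h1).not_ge (le_maximalIdeal (l ⟨2, by omega⟩).2.ne_top)

/-- The punctured spectrum is connected and dense. -/
theorem isConnected_punctured (hA : CAlg2.IsGeomUnibranch A) (hdim : 2 ≤ ringKrullDim A) :
    IsConnected (PrimeSpectrum.comap (algebraMap A B) ⁻¹' {closedPoint A}ᶜ) ∧
      ∀ x : PrimeSpectrum B, x ∈ closure (PrimeSpectrum.comap (algebraMap A B) ⁻¹' {closedPoint A}ᶜ) := by
  classical
  haveI := hA.1.1
  haveI := hA.1.2
  haveI : Module.FaithfullyFlat A B := Module.FaithfullyFlat.of_flat_of_isLocalHom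
  obtain ⟨p, hp, hp0, hpm⟩ := exists_prime_between hdim
  have hnil : nilradical A = ⊥ := nilradical_eq_zero A
  let η := genericPt hA
  have hη : η ≠ closedPoint A := fun h => hpm (le_antisymm (le_maximalIdeal hp.ne_top)
    (((congrArg PrimeSpectrum.asIdeal h).symm.trans hnil).le.trans bot_le))
  let U := PrimeSpectrum.comap (algebraMap A B) ⁻¹' {closedPoint A}ᶜ
  have hFU : PrimeSpectrum.comap (algebraMap A B) ⁻¹' {η} ⊆ U := fun q hq h => hη (hq.symm.trans h)
  have hdense : ∀ x : PrimeSpectrum B, x ∈ closure U := fun x =>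
    closure_mono hFU (mem_closure_generic_fibre hA x)
  refine ⟨⟨?_, fun U₁ U₂ hU₁ hU₂ hcov hne₁ hne₂ => ?_⟩, hdense⟩
  · by_contra hh
    rw [Set.not_nonempty_iff_eq_empty] at hh
    have h1 := hdense (closedPoint B)
    rw [show U = ∅ from hh, closure_empty] at h1
    exact h1
  by_contra hcon
  rw [Set.not_nonempty_iff_eq_empty] at hcon
  let D := CAlg2.red A
  let K := FractionRing D
  haveI : IsLocalRing D := IsLocalRing.of_surjective' _ Ideal.Quotient.mk_surjective
  let S : Subalgebra D K := integralClosure D K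
  haveI : IsLocalRing S := hA.1.2
  haveI : Algebra.IsIntegral A D := Algebra.IsIntegral.of_finite A D
  haveI : Algebra.IsIntegral A S := Algebra.IsIntegral.trans D
  have hinjA : Function.Injective (algebraMap A K) := by
    rw [IsScalarTower.algebraMap_eq A D K]
    exact (IsFractionRing.injective D K).comp
      (Ideal.Quotient.mk_bijective_iff_eq_bot (I := nilradical A) |>.2 hnil).1
  let ι₁ : B →+* B ⊗[A] K := Algebra.TensorProduct.includeLeftRingHom
  let j := PrimeSpectrum.comap ι₁
  have hj : ∀ q, PrimeSpectrum.comap (algebraMap A B) (j q) = η := fun q => by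
    refine PrimeSpectrum.ext ?_
    show ((q.asIdeal.comap ι₁).comap (algebraMap A B)) = nilradical A
    refine Eq.trans (le_bot_iff.1 fun a ha => ?_) hnil.symm
    by_contra ha0
    have hu : IsUnit (ι₁ (algebraMap A B a)) := by
      have : ι₁ (algebraMap A B a) = Algebra.TensorProduct.includeRight (R := A) (A := B) (algebraMap A K a) :=
        (Algebra.TensorProduct.includeRight.commutes a).symm
      rw [this]
      exact (isUnit_iff_ne_zero.2 ((map_ne_zero_iff _ hinjA).2 ha0)).map _
    exact q.2.ne_top (Ideal.eq_top_of_isUnit_mem _ ha hu)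
  have hjU : ∀ q, j q ∈ U := fun q => hFU (hj q)
  have hgen : ∀ x : PrimeSpectrum B, ∃ q, j q ⤳ x := fun x => by
    haveI := η.2
    obtain ⟨Q, hQ, hQp, hQo⟩ := Ideal.exists_ideal_le_liesOver_of_le (p := η.asIdeal)
      (q := x.asIdeal.under A) x.asIdeal (nilradical_le_prime _)
    let L := Q.ResidueField
    have hk : RingHom.ker (algebraMap A L) = nilradical A := by
      rw [IsScalarTower.algebraMap_eq A B L, ← RingHom.comap_ker, Ideal.ker_algebraMap_residueField]
      exact hQo.over.symm
    let g₀ : D →+* L := Ideal.Quotient.lift (nilradical A) (algebraMap A L) fun a ha => hk.ge ha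
    have hg₀ : Function.Injective g₀ := fun u v huv => by
      obtain ⟨a, rfl⟩ := Ideal.Quotient.mk_surjective u
      obtain ⟨b, rfl⟩ := Ideal.Quotient.mk_surjective v
      refine Ideal.Quotient.eq.2 (hk.le ?_)
      rw [RingHom.mem_ker, map_sub, sub_eq_zero]
      exact huv
    let g : K →ₐ[A] L :=
      { IsFractionRing.lift hg₀ with
        commutes' := fun a => by
          show IsFractionRing.lift hg₀ (algebraMap A K a) = _
          rw [IsScalarTower.algebraMap_apply A D K, IsFractionRing.lift_algebraMap]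
          rfl }
    let ψ : B ⊗[A] K →+* L :=
      (Algebra.TensorProduct.lift (IsScalarTower.toAlgHom A B L) g fun _ _ => Commute.all _ _).toRingHom
    have : j ⟨RingHom.ker ψ, RingHom.ker_isPrime ψ⟩ = ⟨Q, hQp⟩ := by
      refine PrimeSpectrum.ext ?_
      show (RingHom.ker ψ).comap ι₁ = Q
      rw [RingHom.comap_ker]
      refine Eq.trans ?_ Q.ker_algebraMap_residueField
      congr 1
      refine RingHom.ext fun b => (Algebra.TensorProduct.lift_tmul (IsScalarTower.toAlgHom A B L) g
        (fun _ _ => Commute.all _ _) b 1).trans ?_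
      rw [map_one, mul_one]
      rfl
    exact ⟨_, this ▸ (PrimeSpectrum.le_iff_specializes ⟨Q, hQp⟩ x).1 hQ⟩
  have hdisj : ∀ q ∈ U, q ∈ U₁ → q ∉ U₂ := fun q h h1 h2 => Set.eq_empty_iff_forall_notMem.1 hcon q ⟨h, h1, h2⟩
  have hclopen : IsClopen (j ⁻¹' U₁) := by
    refine ⟨?_, hU₁.preimage (PrimeSpectrum.continuous_comap _)⟩
    have : j ⁻¹' U₁ = (j ⁻¹' U₂)ᶜ := by
      ext q
      exact ⟨fun h1 h2 => hdisj _ (hjU q) h1 h2, fun h2 => (hcov (hjU q)).resolve_right h2⟩
    rw [this]; exact (hU₂.preimage (PrimeSpectrum.continuous_comap _)).isClosed_compl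
  obtain ⟨e, he, hee⟩ := PrimeSpectrum.isClopen_iff.1 hclopen
  -- the idempotent is defined over the complete fibre
  obtain ⟨ι, val, hval⟩ := exists_krull_family D K
  have hloc : ∀ i, IsMinCen hval i →
      e ∈ (Algebra.TensorProduct.map (AlgHom.id A B) (valSubalgebra A hval i).val).range := fun i hi => by
    -- an element of the maximal ideal which is a unit for the valuation
    haveI := hval.cen_isPrime i
    obtain ⟨f, hfm, hfc⟩ : ∃ f ∈ maximalIdeal A, algebraMap A S f ∉ hval.cen i := by
      by_contra hh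
      push Not at hh
      haveI : (hval.cen i).IsMaximal := Ideal.isMaximal_of_isIntegral_of_isMaximal_comap (R := A) _ (by
        have : (hval.cen i).comap (algebraMap A S) = maximalIdeal A :=
          le_antisymm (le_maximalIdeal (Ideal.comap_ne_top _ (hval.cen_isPrime i).ne_top)) fun f hf => hh f hf
        rw [this]; exact maximalIdeal.isMaximal A)
      haveI := hp
      have hinjS : Function.Injective (algebraMap A S) := fun a b hab =>
        hinjA (congrArg Subtype.val hab)
      obtain ⟨P, -, hP, hPp⟩ := Ideal.exists_ideal_over_prime_of_isIntegral p (⊥ : Ideal S) (by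
        rw [← RingHom.ker_eq_comap_bot, (RingHom.injective_iff_ker_eq_bot _).1 hinjS]; exact bot_le)
      have hP0 : P ≠ ⊥ := fun h => hp0 (by
        rw [← hPp, h, ← RingHom.ker_eq_comap_bot, (RingHom.injective_iff_ker_eq_bot _).1 hinjS])
      have hPc : P ≤ hval.cen i := (le_maximalIdeal hP.ne_top).trans (eq_maximalIdeal ‹(hval.cen i).IsMaximal›).ge
      refine hpm (le_antisymm (le_maximalIdeal hp.ne_top) ?_)
      rw [← hPp, hi.2 P hP hP0 hPc]
      exact fun f hf => hh f hf
    have hf1 : val i (algebraMap A K f) = 1 := hval.notMem_cen.1 hfc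
    have hf0 : algebraMap A K f ≠ 0 := fun h => by rw [h, map_zero] at hf1; exact zero_ne_one hf1
    let V := valSubalgebra A hval i
    have hfV : IsUnit (algebraMap A V f) := IsUnit.of_mul_eq_one
      (⟨(algebraMap A K f)⁻¹, by show val i _ ≤ 1; rw [map_inv₀, hf1, inv_one]⟩ : V)
      (Subtype.ext (mul_inv_cancel₀ hf0))
    -- clopen on the basic open
    let Bf := Localization.Away (algebraMap A B f)
    let k := PrimeSpectrum.comap (algebraMap B Bf)
    have hkU : ∀ q, k q ∈ U := fun q h => by
      have : algebraMap A B f ∈ (k q).asIdeal := by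
        have h' : (k q).asIdeal.comap (algebraMap A B) = maximalIdeal A := congrArg PrimeSpectrum.asIdeal h
        exact Ideal.mem_comap.1 (h'.symm ▸ hfm)
      exact q.2.ne_top (Ideal.eq_top_of_isUnit_mem _ this (IsLocalization.Away.algebraMap_isUnit _))
    have hclf : IsClopen (k ⁻¹' U₁) := by
      refine ⟨?_, hU₁.preimage (PrimeSpectrum.continuous_comap _)⟩
      have : k ⁻¹' U₁ = (k ⁻¹' U₂)ᶜ := by
        ext q
        exact ⟨fun h1 h2 => hdisj _ (hkU q) h1 h2, fun h2 => (hcov (hkU q)).resolve_right h2⟩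
      rw [this]; exact (hU₂.preimage (PrimeSpectrum.continuous_comap _)).isClosed_compl
    obtain ⟨ef, hef, heef⟩ := PrimeSpectrum.isClopen_iff.1 hclf
    have hfu : IsUnit ((Algebra.TensorProduct.includeLeftRingHom : B →+* B ⊗[A] V) (algebraMap A B f)) := by
      have : (Algebra.TensorProduct.includeLeftRingHom : B →+* B ⊗[A] V) (algebraMap A B f) =
          Algebra.TensorProduct.includeRight (R := A) (A := B) (algebraMap A V f) :=
        (Algebra.TensorProduct.includeRight.commutes f).symm
      rw [this]; exact hfV.map _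
    let g : Bf →+* B ⊗[A] V := IsLocalization.Away.lift (algebraMap A B f) hfu
    let G := Algebra.TensorProduct.map (AlgHom.id A B) V.val
    refine ⟨g ef, ?_⟩
    show G (g ef) = e
    have hidem : IsIdempotentElem (G (g ef)) := (hef.map g).map G
    refine PrimeSpectrum.basicOpen_injOn_isIdempotentElem hidem he (SetLike.coe_injective ?_)
    rw [← hee]
    ext q
    have hcomp : k (PrimeSpectrum.comap (G.toRingHom.comp g) q) = j q := by
      refine PrimeSpectrum.ext ?_
      show ((q.asIdeal.comap (G.toRingHom.comp g)).comap (algebraMap B Bf)) = q.asIdeal.comap ι₁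
      rw [Ideal.comap_comap]
      congr 1
      ext b
      show G (g (algebraMap B Bf b)) = b ⊗ₜ[A] 1
      rw [IsLocalization.Away.lift_eq]
      exact (Algebra.TensorProduct.map_tmul _ _ _ _).trans (by rw [map_one]; rfl)
    have h2 : PrimeSpectrum.comap (G.toRingHom.comp g) q ∈ k ⁻¹' U₁ ↔
        PrimeSpectrum.comap (G.toRingHom.comp g) q ∈ PrimeSpectrum.basicOpen ef := by rw [heef]; rfl
    rw [Set.mem_preimage, hcomp] at h2
    exact h2.symm
  obtain ⟨y, hy, rfl⟩ := exists_idempotent_eq_of_minimal hval he hloc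
  haveI : IsLocalRing (B ⊗[A] S) := by
    let m' := maximalIdeal S
    let κ' := S ⧸ m'
    haveI : m'.IsMaximal := maximalIdeal.isMaximal S
    haveI : IsDomain κ' := Ideal.Quotient.isDomain m'
    let q := ringExpChar κ'
    let g : ResidueField A →+* κ' :=
      Ideal.Quotient.lift (maximalIdeal A) ((Ideal.Quotient.mk m').comp (algebraMap A S)) fun a ha => by
        haveI : (m'.comap (algebraMap A S)).IsMaximal :=
          Ideal.isMaximal_comap_of_isIntegral_of_isMaximal (R := A) m'
        refine Ideal.Quotient.eq_zero_iff_mem.2 ?_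
        rwa [← Ideal.mem_comap, eq_maximalIdeal this]
    haveI : ExpChar (ResidueField A) q := g.expChar g.injective q
    exact isLocalRing_tensor_of_purelyInseparable q fun r => by
      obtain ⟨n, a, ha⟩ := hA.2 m' (Ideal.Quotient.mk m' r)
      refine ⟨n, a, ?_⟩
      rw [← Ideal.Quotient.eq, map_pow]
      exact ha.symm
  have key : ∀ O : Set (PrimeSpectrum B), IsOpen O → (U ∩ O).Nonempty → ∃ q, j q ∈ O := by
    rintro O hO ⟨x, -, hx⟩
    obtain ⟨q, hq⟩ := hgen x
    exact ⟨q, hq.mem_open hO hx⟩
  rcases eq_zero_or_one_of_isLocalRing hy with rfl | rfl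
  · obtain ⟨q, hq⟩ := key U₁ hU₁ hne₁
    rw [map_zero, PrimeSpectrum.basicOpen_zero] at hee
    exact ((Set.ext_iff.1 hee q).1 hq).elim
  · obtain ⟨q, hq⟩ := key U₂ hU₂ hne₂
    rw [map_one, PrimeSpectrum.basicOpen_one] at hee
    exact hdisj _ (hjU q) ((Set.ext_iff.1 hee q).2 trivial) hq

end

open AlgebraicGeometry CategoryTheory in
theorem isConnected_compl_punctured (A : Type u) [CommRing A] [IsNoetherianRing A] [IsLocalRing A] [IsDomain A]
    (hA : CAlg2.IsGeomUnibranch A) (hdim : 2 ≤ ringKrullDim A) {X : Scheme.{u}} [IsLocallyNoetherian X]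
    [ConnectedSpace ↥X] (f : X ⟶ Spec (CommRingCat.of A)) [Flat f] (T : Set X)
    (hTy : ∀ x ∈ T, f x = IsLocalRing.closedPoint A) : _root_.IsConnected Tᶜ := by
  let M : Set X := {w | f w ≠ IsLocalRing.closedPoint A}
  suffices h : ∀ x : X, _root_.IsConnected {w | w ⤳ x ∧ w ∈ M} ∧ x ∈ closure {w | w ⤳ x ∧ w ∈ M} from
    isConnected_compl_of_generizations M T (fun w hw hwT => hw (hTy w hwT)) (fun x => (h x).1) fun x => (h x).2
  intro x
  by_cases hx : f x = IsLocalRing.closedPoint A
  · obtain ⟨φ, hφ⟩ := Spec.map_surjective (X.fromSpecStalk x ≫ f)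
    letI := φ.hom.toAlgebra
    haveI : Flat (Spec.map φ) := hφ ▸ inferInstance
    haveI : Module.Flat A (X.presheaf.stalk x) := (HasRingHomProperty.Spec_iff (P := @Flat)).1 this
    let c := PrimeSpectrum.comap (algebraMap A (X.presheaf.stalk x))
    have hc : ∀ q, f (X.fromSpecStalk x q) = c q := fun q => by
      rw [← Scheme.Hom.comp_apply, ← hφ]; rfl
    haveI : IsLocalHom (algebraMap A (X.presheaf.stalk x)) := by
      refine ((IsLocalRing.local_hom_TFAE _).out 4 0).1 ?_
      have := hc (IsLocalRing.closedPoint _)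
      rw [Scheme.fromSpecStalk_closedPoint, hx] at this
      exact congrArg PrimeSpectrum.asIdeal this.symm
    have hP : {w | w ⤳ x ∧ w ∈ M} = X.fromSpecStalk x '' (c ⁻¹' {IsLocalRing.closedPoint A}ᶜ) := by
      ext w
      constructor
      · rintro ⟨hw, hm⟩
        obtain ⟨q, rfl⟩ : w ∈ Set.range (X.fromSpecStalk x) := by rw [Scheme.range_fromSpecStalk]; exact hw
        exact ⟨q, fun h => hm ((hc q).trans h), rfl⟩
      · rintro ⟨q, hq, rfl⟩
        refine ⟨?_, fun h => hq ((hc q).symm.trans h)⟩
        have : X.fromSpecStalk x q ∈ Set.range (X.fromSpecStalk x) := ⟨_, rfl⟩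
        rwa [Scheme.range_fromSpecStalk] at this
    obtain ⟨h1, h2⟩ := isConnected_punctured (B := X.presheaf.stalk x) hA hdim
    rw [hP]
    exact ⟨h1.image _ (X.fromSpecStalk x).continuous.continuousOn,
      image_closure_subset_closure_image (X.fromSpecStalk x).continuous
        ⟨_, h2 (IsLocalRing.closedPoint _), Scheme.fromSpecStalk_closedPoint⟩⟩
  · have hall : {w | w ⤳ x ∧ w ∈ M} = {w | w ⤳ x} := by
      ext w
      refine ⟨And.left, fun hw => ⟨hw, fun h => hx ?_⟩⟩
      have h1 : IsLocalRing.closedPoint A ⤳ f x := h ▸ hw.map f.continuous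
      exact PrimeSpectrum.ext (le_antisymm (le_maximalIdeal (f x).2.ne_top)
        ((PrimeSpectrum.le_iff_specializes _ _).2 h1))
    rw [hall]
    refine ⟨⟨⟨x, specializes_rfl⟩, fun U₁ U₂ hU₁ hU₂ hcov hne₁ hne₂ => ?_⟩, subset_closure specializes_rfl⟩
    rcases hcov (specializes_rfl : x ⤳ x) with h | h
    · obtain ⟨w, hw, hw2⟩ := hne₂
      exact ⟨w, hw, hw.mem_open hU₁ h, hw2⟩
    · obtain ⟨w, hw, hw1⟩ := hne₁
      exact ⟨w, hw, hw1, hw.mem_open hU₂ h⟩

end Groth.Agent.H06GRConn
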