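import Groth.Agent.H06GRConn.Divide
import Groth.Agent.H3CAlg.Mori.Main

/-! Idempotents of flat base changes with geometrically reduced fibres over intersections of valuation rings. -/

set_option autoImplicit false
set_option backward.isDefEq.respectTransparency false
set_option linter.style.haveILetI false
noncomputable section
universe u v
open scoped TensorProduct WithZero
open Groth.Agent.H3CAlg.Mori

namespace Groth.Agent.H06GRConn

theorem exists_krull_family (C : Type u) [CommRing C] [IsDomain C] [IsNoetherianRing C] [IsLocalRing C]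
    (K : Type u) [Field K] [Algebra C K] [IsFractionRing C K] :
    ∃ (ι : Type u) (val : ι → Valuation K ℤᵐ⁰), IsKrullFamily (integralClosure C K) val := by
  haveI : IsNoetherianRing (AdicCompletion (IsLocalRing.maximalIdeal C) C) :=
    H05EGA4.isNoetherianRing_adicCompletion C _
  haveI : Module.FaithfullyFlat C (AdicCompletion (IsLocalRing.maximalIdeal C) C) :=
    Module.FaithfullyFlat.of_flat_of_isLocalHom
  exact ⟨_, _, isKrullFamily K
    (H05EGA4.isNagata_of_isAdicComplete (AdicCompletion (IsLocalRing.maximalIdeal C) C))⟩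

variable {A B C K : Type u} [CommRing A] [CommRing B] [Algebra A B] [Module.Flat A B]
  [CommRing C] [Field K] [Algebra C K] [Algebra A C] [Algebra A K] [IsScalarTower A C K]
  {S : Subalgebra C K} {ι : Type v} {val : ι → Valuation K ℤᵐ⁰}

theorem map_val_injective :
    Function.Injective (Algebra.TensorProduct.map (AlgHom.id A B) (S.val.restrictScalars A)) :=
  Module.Flat.lTensor_preserves_injective_linearMap (S.val.restrictScalars A).toLinearMap Subtype.val_injective

omit [Module.Flat A B] in
/-- Every element of the generic base change has a denominator. -/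
theorem exists_denominator (h : IsKrullFamily S val) (z : B ⊗[A] K) : ∃ (a : S) (x : B ⊗[A] S), a ≠ 0 ∧
    Algebra.TensorProduct.map (AlgHom.id A B) (S.val.restrictScalars A) x = z * ((1 : B) ⊗ₜ[A] (a : K)) := by
  induction z using TensorProduct.induction_on with
  | zero => exact ⟨1, 0, one_ne_zero, by rw [map_zero, zero_mul]⟩
  | tmul b k =>
    obtain ⟨c, hc, hc0, hck⟩ := h.frac k
    refine ⟨⟨c, hc⟩, b ⊗ₜ[A] (⟨c * k, hck⟩ : S), fun e => hc0 (congrArg Subtype.val e), ?_⟩
    rw [Algebra.TensorProduct.map_tmul, Algebra.TensorProduct.tmul_mul_tmul, mul_one, mul_comm k c]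
    rfl
  | add p q hp hq =>
    obtain ⟨a, x, ha, hx⟩ := hp
    obtain ⟨a', x', ha', hx'⟩ := hq
    refine ⟨a * a', x * ((1 : B) ⊗ₜ[A] a') + x' * ((1 : B) ⊗ₜ[A] a), mul_ne_zero ha ha', ?_⟩
    rw [map_add, map_mul, map_mul, hx, hx', Algebra.TensorProduct.map_tmul, Algebra.TensorProduct.map_tmul]
    have e : ((1 : B) ⊗ₜ[A] ((a * a' : S) : K)) = ((1 : B) ⊗ₜ[A] (a : K)) * ((1 : B) ⊗ₜ[A] (a' : K)) := by
      rw [Algebra.TensorProduct.tmul_mul_tmul, one_mul]; rfl
    rw [e]
    show p * _ * ((1 : B) ⊗ₜ[A] (a' : K)) + q * _ * ((1 : B) ⊗ₜ[A] (a : K)) = _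
    ring

theorem exists_eq_mul_krull (h : IsKrullFamily S val)
    (hred : ∀ (L : Type u) [Field L] [Algebra A L], IsReduced (B ⊗[A] L)) {a : S} (ha : a ≠ 0)
    {x : B ⊗[A] S} (hx : x * x = x * ((1 : B) ⊗ₜ[A] a)) : ∃ y, x = y * ((1 : B) ⊗ₜ[A] a) := by
  classical
  have ha' : (a : K) ≠ 0 := fun e => ha (Subtype.ext e)
  let J := {i : ι // val i (a : K) < 1}
  haveI : Fintype J := ((h.finite _ ha').subset fun i hi => ne_of_lt hi).fintype
  let ψ : ∀ i : J, S →+* (val i.1).valuationSubring := fun i =>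
    { toFun := fun s => ⟨(s : K), h.le_one i.1 s⟩
      map_one' := rfl
      map_zero' := rfl
      map_mul' := fun _ _ => rfl
      map_add' := fun _ _ => rfl }
  letI : ∀ i : J, Algebra A (val i.1).valuationSubring := fun i => ((ψ i).comp (algebraMap A S)).toAlgebra
  let φ : ∀ i : J, S →ₐ[A] (val i.1).valuationSubring := fun i => { ψ i with commutes' := fun _ => rfl }
  have hdvd : ∀ (i : J) (p q : (val i.1).valuationSubring), p ∣ q → val i.1 (q : K) ≤ val i.1 (p : K) := by
    rintro i p q ⟨c, rfl⟩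
    rw [MulMemClass.coe_mul, map_mul]
    exact mul_le_of_le_one_right' c.2
  refine exists_eq_mul_of_local (fun i : J => ↥(val i.1).valuationSubring) φ a (fun r hr => ?_) x fun i => ?_
  · have hq : (r : K) / (a : K) ∈ S := by
      refine (h.mem_iff _).2 fun i => ?_
      rw [map_div₀, div_le_one₀ (zero_lt_iff.2 ((Valuation.ne_zero_iff _).2 ha'))]
      by_cases hi : val i (a : K) < 1
      · exact hdvd ⟨i, hi⟩ _ _ (hr ⟨i, hi⟩)
      · rw [le_antisymm (h.le_one i a) (not_lt.1 hi)]
        exact h.le_one i r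
    exact ⟨⟨_, hq⟩, Subtype.ext (mul_div_cancel₀ (r : K) ha').symm⟩
  let V := (val i.1).valuationSubring
  let κ := IsLocalRing.ResidueField V
  letI : Algebra A κ := ((IsLocalRing.residue V).comp (algebraMap A V)).toAlgebra
  haveI := hred κ
  let res : V →ₐ[A] κ := { IsLocalRing.residue V with commutes' := fun _ => rfl }
  refine exists_eq_mul_valuation res IsLocalRing.residue_surjective (fun r => ?_)
    (fun p q => ValuationRing.dvd_total p q) (fun p => (-WithZero.log (val i.1 (p : K))).toNat)
    (fun p q hpq hp => ?_) (a := φ i a) ?_ ?_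
  · exact (IsLocalRing.residue_eq_zero_iff r).trans (IsLocalRing.mem_maximalIdeal r)
  · have hp0 : val i.1 (p : K) ≠ 0 := (Valuation.ne_zero_iff _).2 fun e => left_ne_zero_of_mul hpq (Subtype.ext e)
    have hq0 : val i.1 (q : K) ≠ 0 := (Valuation.ne_zero_iff _).2 fun e => right_ne_zero_of_mul hpq (Subtype.ext e)
    have hp1 : val i.1 (p : K) < 1 := by
      refine lt_of_le_of_ne p.2 fun e => hp ?_
      have hinv : (p : K)⁻¹ ∈ V := by
        show val i.1 (p : K)⁻¹ ≤ 1
        rw [map_inv₀, e, inv_one]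
      exact IsUnit.of_mul_eq_one _ (show p * ⟨_, hinv⟩ = 1 from
        Subtype.ext (mul_inv_cancel₀ ((Valuation.ne_zero_iff _).1 hp0)))
    have l1 : WithZero.log (val i.1 (p : K)) < 0 := by
      rw [← WithZero.log_one]; exact (WithZero.log_lt_log hp0 one_ne_zero).2 hp1
    have l2 : WithZero.log (val i.1 (q : K)) ≤ 0 := by
      rw [← WithZero.log_one]; exact (WithZero.log_le_log hq0 one_ne_zero).2 q.2
    rw [MulMemClass.coe_mul, map_mul, WithZero.log_mul hp0 hq0]
    omega
  · exact fun e => ha' (congrArg Subtype.val e)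
  · rw [← map_mul, hx, map_mul, Algebra.TensorProduct.map_tmul]; rfl

/-- Idempotents of the generic base change come from the intersection of the valuation rings. -/
theorem exists_idempotent_eq (h : IsKrullFamily S val)
    (hred : ∀ (L : Type u) [Field L] [Algebra A L], IsReduced (B ⊗[A] L)) {e : B ⊗[A] K} (he : IsIdempotentElem e) :
    ∃ y : B ⊗[A] S, IsIdempotentElem y ∧ Algebra.TensorProduct.map (AlgHom.id A B) (S.val.restrictScalars A) y = e := by
  obtain ⟨a, x, ha, hx⟩ := exists_denominator h e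
  set F := Algebra.TensorProduct.map (AlgHom.id A B) (S.val.restrictScalars A)
  have hFa : F ((1 : B) ⊗ₜ[A] a) = (1 : B) ⊗ₜ[A] (a : K) := rfl
  obtain ⟨y, hy⟩ := exists_eq_mul_krull h hred ha (x := x) (map_val_injective (by
    rw [map_mul, map_mul, hx]
    show _ = _ * F ((1 : B) ⊗ₜ[A] a)
    rw [hFa]
    linear_combination ((1 : B) ⊗ₜ[A] (a : K)) ^ 2 * he.eq))
  have hu : IsUnit ((1 : B) ⊗ₜ[A] (a : K)) :=
    (isUnit_iff_ne_zero.2 fun e' => ha (Subtype.ext e')).map
      (Algebra.TensorProduct.includeRight (R := A) (A := B) (B := K))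
  have hye : F y = e := hu.mul_right_cancel (by rw [← hx, hy, map_mul, hFa])
  exact ⟨y, map_val_injective (by rw [map_mul, hye, he.eq]), hye⟩

end Groth.Agent.H06GRConn
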